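import Cfsg.Agent.Lib.Char.Extension
import Cfsg.Agent.Lib.CharNormal.Clifford
import Cfsg.Agent.Lib.BlockArith.RankTrace
import Cfsg.Prelude.Def_BlockRank

/-!
# The regular parts of the characters over an invariant character

* `exists_coset_scalar`: on a coset of `N` the characters over an invariant `θ` are multiples of one function;
* `blockRank_le_of_over`: hence their regular parts span no more than the regular classes of the quotient;
* `blockRank_le_of_induced`: the rank does not grow under induction.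
-/

set_option autoImplicit false

noncomputable section

open scoped ComplexConjugate Classical Pointwise

namespace CfsgLib.RankThree

open Cfsg CfsgLib.Char

variable {G : Type*} [Group G] [Fintype G] (N : Subgroup G) [hN : N.Normal] [Fintype N]

/-- On `g N` every character over `θ` is a multiple of the same function. -/
theorem exists_coset_scalar {θ : N → ℂ} (hθ : IsIrrCharacter N θ)
    (hinv : ∀ g : G, CharNormal.conjFun N g θ = θ) (g : G) :
    ∃ F : N → ℂ, ∀ χ : IrrCharacter G, classInner (fun n : N => (χ : G → ℂ) n) θ ≠ 0 →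
      ∃ c : ℂ, ∀ n : N, (χ : G → ℂ) (g * n) = c * F n := by
  set H : Subgroup G := N ⊔ Subgroup.zpowers g with hH
  have hNH : N ≤ H := le_sup_left
  have hgH : g ∈ H := le_sup_right (a := N) (Subgroup.mem_zpowers g)
  let K : Subgroup H := N.subgroupOf H
  let _ : Fintype H := Fintype.ofFinite H
  let _ : Fintype K := Fintype.ofFinite K
  let e : K ≃* N := Subgroup.subgroupOfEquivOfLe hNH
  have hcyc : IsCyclic (H ⧸ K) := by
    refine ⟨⟨QuotientGroup.mk ⟨g, hgH⟩, fun q => ?_⟩⟩
    obtain ⟨⟨x, hx⟩, rfl⟩ := QuotientGroup.mk_surjective q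
    have hx' : x ∈ ((N : Set G) * (Subgroup.zpowers g : Set G)) := by
      rw [← Subgroup.normal_mul]; exact hx
    obtain ⟨n, hn, z, hz, rfl⟩ := hx'
    obtain ⟨i, rfl⟩ := Subgroup.mem_zpowers_iff.mp hz
    refine ⟨i, ?_⟩
    show (QuotientGroup.mk' K ⟨g, hgH⟩) ^ i = _
    rw [← map_zpow]
    refine (QuotientGroup.eq).mpr (Subgroup.mem_subgroupOf.mpr ?_)
    simp only [Subgroup.coe_mul, Subgroup.coe_inv, Subgroup.coe_zpow]
    simpa [mul_assoc] using hN.conj_mem n hn (g ^ i)⁻¹
  have hθK : IsIrrCharacter K (fun k : K => θ (e k)) := CharNormal.isIrr_comp_mulEquiv hθ e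
  obtain ⟨η, hη, hext⟩ := extend_of_cyclic K hcyc hθK fun h k => by
    have h1 := congrFun (hinv (h : G)) (e k)
    rw [CharNormal.conjFun_apply] at h1
    refine Eq.trans ?_ h1
    congr 1
  refine ⟨fun n => η (⟨g, hgH⟩ * ⟨n, hNH n.2⟩), fun χ hχ => ?_⟩
  have hres := CharNormal.res_eq_smul_of_invariant N χ.2 hθ hinv hχ
  obtain ⟨m, hm, -⟩ := char_decomp (isCharacter_res H (isCharacter_of_isIrr χ.2))
  have hscal : ∀ ψ : IrrCharacter H, m ψ ≠ 0 →
      ∃ c : ℂ, ∀ n : N, (ψ : H → ℂ) (⟨g, hgH⟩ * ⟨n, hNH n.2⟩) = c * η (⟨g, hgH⟩ * ⟨n, hNH n.2⟩) := by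
    intro ψ hmψ
    obtain ⟨φ, hφ, hne⟩ := exists_constituent (isCharacter_res K (isCharacter_of_isIrr ψ.2))
      fun h => irr_one_ne_zero ψ.2 (by simpa using congrFun h 1)
    have hθφ : φ = fun k : K => θ (e k) := by
      by_contra hc
      have h1 : classInner (fun k : K => (χ : G → ℂ) (k : H)) φ = 0 := by
        have h2 : (fun k : K => (χ : G → ℂ) (k : H)) =
            classInner (fun n : N => (χ : G → ℂ) n) θ • (fun k : K => θ (e k)) := funext fun k => by
          have := congrFun hres (e k)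
          have he : ((e k : N) : G) = ((k : H) : G) := rfl
          simpa [e, he] using this
        rw [h2, classInner_smul_left, classInner_irr_ne hθK hφ (Ne.symm hc), mul_zero]
      have h3 : (fun k : K => (χ : G → ℂ) (k : H)) =
          ∑ ψ' : IrrCharacter H, (m ψ' : ℂ) • (fun k : K => (ψ' : H → ℂ) k) := funext fun k => by
        have := congrFun hm (k : H)
        simpa [Finset.sum_apply] using this
      rw [h3, classInner_sum_left] at h1
      choose a ha using fun ψ' : IrrCharacter H =>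
        classInner_char_nat (isCharacter_res K (isCharacter_of_isIrr ψ'.2)) (isCharacter_of_isIrr hφ)
      simp only [classInner_smul_left, ha] at h1
      have h4 : ∑ ψ' : IrrCharacter H, m ψ' * a ψ' = 0 := by exact_mod_cast h1
      have h5 := (Finset.sum_eq_zero_iff).mp h4 ψ (Finset.mem_univ _)
      rw [ha ψ] at hne
      rcases Nat.mul_eq_zero.mp h5 with h | h
      · exact hmψ h
      · exact hne (by rw [h]; norm_num)
    obtain ⟨β, -, hβ⟩ := CharNormal.exists_eq_mul_comp_mk' K (isCharacter_of_isIrr hη)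
      (by rwa [show (fun n : K => η n) = fun k : K => θ (e k) from funext hext])
      ψ.2 (by
        rw [show (fun n : K => η n) = φ by rw [hθφ]; exact funext hext]
        exact hne)
    refine ⟨β (QuotientGroup.mk ⟨g, hgH⟩), fun n => ?_⟩
    rw [hβ]
    simp only [Pi.mul_apply, Function.comp_apply]
    rw [mul_comm]
    congr 1
    refine congrArg β ((QuotientGroup.eq).mpr (Subgroup.mem_subgroupOf.mpr ?_))
    simp
  choose c hc using fun ψ : IrrCharacter H => show ∃ c : ℂ, ∀ n : N,
      (m ψ : ℂ) * (ψ : H → ℂ) (⟨g, hgH⟩ * ⟨n, hNH n.2⟩) = c * η (⟨g, hgH⟩ * ⟨n, hNH n.2⟩) from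
    if h : m ψ = 0 then ⟨0, fun n => by simp [h]⟩ else
      let ⟨c, hc⟩ := hscal ψ h
      ⟨m ψ * c, fun n => by rw [hc n]; ring⟩
  refine ⟨∑ ψ : IrrCharacter H, c ψ, fun n => ?_⟩
  have := congrFun hm (⟨g, hgH⟩ * ⟨n, hNH n.2⟩)
  simp only [Finset.sum_apply, Pi.smul_apply, smul_eq_mul, Subgroup.coe_mul] at this
  rw [this, Finset.sum_mul]
  exact Finset.sum_congr rfl fun ψ _ => hc ψ n

/-- The regular parts of the characters over `θ` are determined on the regular classes of the quotient. -/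
theorem blockRank_le_of_over (p : ℕ) {θ : N → ℂ} (hθ : IsIrrCharacter N θ)
    (hinv : ∀ g : G, CharNormal.conjFun N g θ = θ) (Q : Finset (G ⧸ N))
    (hQ : ∀ x : G, ¬ p ∣ orderOf x → ∃ q ∈ Q, IsConj (x : G ⧸ N) q) {B : Set (IrrCharacter G)}
    (hB : ∀ χ ∈ B, classInner (fun n : N => (χ : G → ℂ) n) θ ≠ 0) :
    blockRank p B ≤ Q.card := by
  choose F hF using fun q : Q => exists_coset_scalar N hθ hinv (Quotient.out (q : G ⧸ N))
  have hpt : ∀ q : Q, ∃ n₀ : N, ∀ n : N, ¬ p ∣ orderOf (Quotient.out (q : G ⧸ N) * (n : G)) → F q n ≠ 0 →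
      ¬ p ∣ orderOf (Quotient.out (q : G ⧸ N) * (n₀ : G)) ∧ F q n₀ ≠ 0 := fun q => by
    by_cases h : ∃ n : N, ¬ p ∣ orderOf (Quotient.out (q : G ⧸ N) * (n : G)) ∧ F q n ≠ 0
    · exact ⟨h.choose, fun _ _ _ => h.choose_spec⟩
    · exact ⟨1, fun n h1 h2 => absurd ⟨n, h1, h2⟩ h⟩
  choose n₀ hn₀ using hpt
  -- a function of the span is known from the values of the characters
  let Φ : (G → ℂ) →ₗ[ℂ] (Q → ℂ) :=
    { toFun := fun f q => f (Quotient.out (q : G ⧸ N) * n₀ q)
      map_add' := fun _ _ => rfl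
      map_smul' := fun _ _ => rfl }
  set S := Submodule.span ℂ ((fun χ : IrrCharacter G => pRegularPart p (χ : G → ℂ)) '' B) with hS
  let T : (B → ℂ) →ₗ[ℂ] (G → ℂ) :=
    Fintype.linearCombination ℂ (fun χ : B => ((χ : IrrCharacter G) : G → ℂ))
  let P : (G → ℂ) →ₗ[ℂ] (G → ℂ) :=
    { toFun := fun f y => if p ∣ orderOf y then 0 else f y
      map_add' := fun f f' => funext fun y => by simp only [Pi.add_apply]; split_ifs <;> simp
      map_smul' := fun a f => funext fun y => by
        simp only [Pi.smul_apply, smul_eq_mul, RingHom.id_apply]; split_ifs <;> simp }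
  have hSr : S = LinearMap.range (P.comp T) := by
    rw [LinearMap.range_comp, Fintype.range_linearCombination, Submodule.map_span, hS,
      ← Set.range_comp]
    congr 1
    ext f
    have hP : ∀ χ : G → ℂ, P χ = pRegularPart p χ :=
      fun χ => funext fun y => (BlockArith.pRegularPart_apply _ y).symm
    simp [hP]
  -- the value at one point of a coset kills the coset
  have hinj : ∀ a : B → ℂ, (∀ q : Q, P (T a) (Quotient.out (q : G ⧸ N) * n₀ q) = 0) → P (T a) = 0 := by
    intro a ha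
    have hcl : IsClassFunction G (T a) := by
      rw [Fintype.linearCombination_apply]
      exact isClassFunction_sum _ fun χ _ => isClassFunction_smul (isClassFunction_of_isIrr χ.1.2) _
    funext x
    show (if p ∣ orderOf x then 0 else T a x) = 0
    split_ifs with hx
    · rfl
    obtain ⟨q, hq, hxq⟩ := hQ x hx
    obtain ⟨v, hv⟩ := isConj_iff.mp hxq
    obtain ⟨w, rfl⟩ := QuotientGroup.mk_surjective v
    set g := Quotient.out (⟨q, hq⟩ : Q).1 with hg
    have hgq : ((g : G) : G ⧸ N) = q := QuotientGroup.out_eq' q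
    let n : N := ⟨g⁻¹ * (w * x * w⁻¹), (QuotientGroup.eq).mp (by rw [hgq]; exact hv.symm)⟩
    have hxe : w * x * w⁻¹ = g * (n : G) := by simp [n]
    rw [← hcl x w, hxe]
    choose b hb using fun χ : B => hF ⟨q, hq⟩ χ.1 (hB _ χ.2)
    have hTa : ∀ k : N, T a (g * k) = (∑ χ : B, a χ * b χ) * F ⟨q, hq⟩ k := fun k => by
      rw [Fintype.linearCombination_apply, Finset.sum_apply, Finset.sum_mul]
      exact Finset.sum_congr rfl fun χ _ => by
        rw [Pi.smul_apply, smul_eq_mul, hg, hb χ k]; ring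
    rw [hTa]
    by_cases hF0 : F ⟨q, hq⟩ n = 0
    · rw [hF0, mul_zero]
    have hreg : ¬ p ∣ orderOf (g * (n : G)) := by
      rwa [← hxe, ← MulAut.conj_apply, MulEquiv.orderOf_eq]
    obtain ⟨hr0, hF1⟩ := hn₀ _ n hreg hF0
    have h0 : (∑ χ : B, a χ * b χ) * F ⟨q, hq⟩ (n₀ ⟨q, hq⟩) = 0 := by
      rw [← hTa]
      have := ha ⟨q, hq⟩
      rwa [show P (T a) (g * (n₀ ⟨q, hq⟩ : G)) = if p ∣ orderOf (g * (n₀ ⟨q, hq⟩ : G)) then 0 else
        T a (g * (n₀ ⟨q, hq⟩ : G)) from rfl, if_neg hr0] at this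
    rw [(mul_eq_zero.mp h0).resolve_right hF1, zero_mul]
  have h1 : Function.Injective (Φ.domRestrict S) := by
    rw [injective_iff_map_eq_zero]
    rintro ⟨f, hf⟩ h
    rw [hSr] at hf
    obtain ⟨a, rfl⟩ := hf
    exact Subtype.ext (hinj a fun q => congrFun h q)
  calc blockRank p B = Module.finrank ℂ S := rfl
    _ ≤ Module.finrank ℂ (Q → ℂ) := LinearMap.finrank_le_finrank_of_injective h1
    _ = Q.card := by rw [Module.finrank_fintype_fun_eq_card, Fintype.card_coe]

/-- Induction does not increase the rank. -/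
theorem blockRank_le_of_induced (p : ℕ) (T : Subgroup G) [Fintype T] {B : Set (IrrCharacter G)}
    {B' : Set (IrrCharacter T)}
    (h : ∀ χ ∈ B, ∃ ψ ∈ B', (χ : G → ℂ) = indFun T (ψ : T → ℂ)) :
    blockRank p B ≤ blockRank p B' := by
  have hcomm : ∀ ψ : T → ℂ, pRegularPart p (indFun T ψ) = indFun T (pRegularPart p ψ) := fun ψ => by
    funext g
    rw [BlockArith.pRegularPart_apply, indFun_apply, indFun_apply]
    have hord : ∀ x : G, orderOf (x⁻¹ * g * x) = orderOf g := fun x => by
      have := MulEquiv.orderOf_eq (MulAut.conj x⁻¹) g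
      simpa using this
    by_cases hg : p ∣ orderOf g
    · rw [if_pos hg, Finset.sum_eq_zero fun x _ => ?_, mul_zero]
      by_cases hx : x⁻¹ * g * x ∈ T
      · rw [extendByZero_of_mem _ hx, BlockArith.pRegularPart_apply, if_pos]
        rwa [Subgroup.orderOf_mk, hord]
      · exact extendByZero_of_notMem _ hx
    · rw [if_neg hg]
      congr 1
      refine Finset.sum_congr rfl fun x _ => ?_
      by_cases hx : x⁻¹ * g * x ∈ T
      · rw [extendByZero_of_mem _ hx, extendByZero_of_mem _ hx, BlockArith.pRegularPart_apply, if_neg]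
        rwa [Subgroup.orderOf_mk, hord]
      · rw [extendByZero_of_notMem _ hx, extendByZero_of_notMem _ hx]
  unfold blockRank
  refine le_trans (Submodule.finrank_mono ?_) (Submodule.finrank_map_le (indₗ T) _)
  rw [Submodule.map_span]
  refine Submodule.span_mono ?_
  rintro _ ⟨χ, hχ, rfl⟩
  obtain ⟨ψ, hψ, he⟩ := h χ hχ
  exact ⟨_, ⟨ψ, hψ, rfl⟩, by show indFun T _ = pRegularPart p _; rw [he, hcomm]⟩

end CfsgLib.RankThree
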