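import Cfsg.Agent.Lib.BlockArith.DihDefect.Main

/-!
# A dihedral defect group with three modular characters

* `blockRank_add_le_of_nonfused`: elements of the defect group with unfused subpairs bound the rank;
* `involutions_conj_of_rank_three`: with rank three all involutions of the defect group are conjugate.
-/

set_option autoImplicit false

noncomputable section

open scoped ComplexConjugate Classical

namespace CfsgLib.RankThree

open Cfsg CfsgLib.Blocks CfsgLib.BlockArith CfsgLib.Char CfsgLib.BrauerPairs CfsgLib.NilBlock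
open CfsgLib.Blocks.Cyclic CfsgLib.DihDefect DihedralGroup

universe u

variable {G : Type u} [Group G] [Fintype G] {p : ℕ} [hp : Fact p.Prime] {M : Ideal AlgInt} [M.IsMaximal]
  {B : Set (IrrCharacter G)} {D : Subgroup G} {e : Set (IrrCharacter (Cen D))}

/-- Each element gives a column orthogonal to the regular values and to the other columns. -/
theorem blockRank_add_le_of_nonfused (hM : IsPModular p M) (hmax : IsMaximalBrauerPair p M B D e) {n : ℕ}
    (x : Fin n → G) (hx : ∀ i, x i ∈ D ∧ x i ≠ 1)
    (hne : ∀ i j, i ≠ j → ∀ (b : Set (IrrCharacter (Cen (Subgroup.zpowers (x i)))))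
      (b' : Set (IrrCharacter (Cen (Subgroup.zpowers (x j))))),
      SubpairLE p M (Subgroup.zpowers (x i)) b D e → SubpairLE p M (Subgroup.zpowers (x j)) b' D e →
      ∀ g : G, g * x j * g⁻¹ = x i →
        cjPair g (⟨Subgroup.zpowers (x j), b'⟩ : BrauerPairIdx G) ≠ ⟨Subgroup.zpowers (x i), b⟩) :
    blockRank p B + n ≤ (bset B).card := by
  have hP := hmax.1.1
  have hB := hmax.1.2.1
  choose b hb _ using fun i => existsUnique_subpair hM (Subgroup.zpowers_le.mpr (hx i).1) hP
  have hpow : ∀ i, ∃ k : ℕ, orderOf (x i) = p ^ k := fun i => exists_pow_of_mem hP.1 (hx i).1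
  have hpair : ∀ i, IsBrauerPairOf p M B (Subgroup.zpowers (x i)) (b i) := fun i =>
    (brauerPairOf_iff_of_subpair hM (a := ⟨_, b i⟩) (b := ⟨D, e⟩) (hb i)).mp hmax.1
  have hind : ∀ i, IsInducedBlock M (Cen (Subgroup.zpowers (x i))) (b i) B := fun i =>
    (brauerPairOf_iff_induced hM (NilBlock.isPGroup_zpowers (hpow i)) (hpair i).1.2 hB).mp (hpair i)
  choose s hs χ₀ hχ₀ hne₀ using fun i => exists_column hM (cen_zpowers (x i)) (hpow i) (hind i)
  let c : Fin n → IrrCharacter G → ℂ := fun i χ =>
    conj (secH (x i) (Cen (Subgroup.zpowers (x i))) (b i) χ (s i))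
  have hzero : ∀ i, ∀ χ, χ ∉ B → c i χ = 0 := fun i χ hχ => by
    show conj _ = 0
    rw [secH_eq_zero (cen_zpowers (x i)) hM (hpow i) (hind i) hχ (hs i), map_zero]
  refine blockRank_add_le (p := p) B c (fun i y hy => ?_) (fun i h => hne₀ i ?_) fun i j hij => ?_
  · rw [Finset.sum_subset (Finset.subset_univ (bset B)) fun χ _ hχ => by
      rw [hzero i χ fun hb' => hχ (mem_bset.mpr hb'), mul_zero]]
    exact sum_char_mul_secH hM (hpow i) (hind i).1 (u := 1) (isPPart_one_iff.mpr hy)
      (fun hc => (hx i).2 (isConj_one_left.mp hc.symm)) (hs i)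
  · have h1 : ∀ χ ∈ bset B, c i χ * conj (c i χ) = ((Complex.normSq (c i χ) : ℝ) : ℂ) := fun χ _ =>
      Complex.mul_conj _
    rw [Finset.sum_congr rfl h1, ← Complex.ofReal_sum, Complex.ofReal_eq_zero,
      Finset.sum_eq_zero_iff_of_nonneg fun χ _ => Complex.normSq_nonneg _] at h
    have h2 := Complex.normSq_eq_zero.mp (h (χ₀ i) (mem_bset.mpr (hχ₀ i)))
    exact (map_eq_zero (starRingEnd ℂ)).mp h2
  · rw [Finset.sum_subset (Finset.subset_univ (bset B)) fun χ _ hχ => by
      rw [hzero i χ fun hb' => hχ (mem_bset.mpr hb'), zero_mul]]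
    simp only [c, starRingEnd_self_apply]
    rw [Finset.sum_congr rfl fun χ _ => mul_comm _ _]
    exact sum_secH_cross hM (hpow j) (hpow i) (hind j).1 (hind i).1
      (hne j i (Ne.symm hij) _ _ (hb j) (hb i)) (hs j) (hs i)

/-- With three modular characters every involution of a dihedral defect group is conjugate to the central one. -/
theorem involutions_conj_of_data {M : Ideal AlgInt} [M.IsMaximal] [Fact (Nat.Prime 2)] (hM : IsPModular 2 M)
    {B : Set (IrrCharacter G)} {D : Subgroup G} {e : Set (IrrCharacter (Cen D))}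
    (hmax : IsMaximalBrauerPair 2 M B D e) {m h : ℕ} {ι : DihedralGroup m →* G} (d : DData D ι h)
    (hcard : Nat.card B = h + 3) (hl : blockRank 2 B = 3) :
    ∀ u ∈ D, ∀ v ∈ D, u * u = 1 → u ≠ 1 → v * v = 1 → v ≠ 1 → IsConj u v := by
  have := d.neZero
  have hmh : m = 2 * h := d.hm
  set z := ι (r (h : ZMod m)) with hz
  have hto : ∀ y ∈ D, y * y = 1 → y ≠ 1 → IsConj y z := by
    intro y hy hy2 hy1
    by_contra hnc
    have hval : ∀ a : ℕ, a < m → ((a : ZMod m)).val = a := fun a ha => ZMod.val_natCast_of_lt ha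
    let l : Fin h → ZMod m := fun i => (((i : ℕ) + 1 : ℕ) : ZMod m)
    have hl0 : ∀ i, l i ≠ 0 := fun i he => by
      have := congrArg ZMod.val he
      rw [ZMod.val_zero, hval _ (by have := i.2; omega)] at this
      omega
    have hlne : ∀ i j, i ≠ j → l i ≠ l j ∧ l i ≠ -l j := fun i j hij => ⟨fun he => by
      have := congrArg ZMod.val he
      rw [hval _ (by have := i.2; omega), hval _ (by have := j.2; omega)] at this
      exact hij (Fin.ext (by omega)), fun he => by
      have he' : (((i : ℕ) + 1 + ((j : ℕ) + 1) : ℕ) : ZMod m) = 0 := by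
        rw [Nat.cast_add]; exact eq_neg_iff_add_eq_zero.mp he
      have := congrArg ZMod.val he'
      have hi := i.2
      have hj := j.2
      rw [ZMod.val_zero, hval _ (by omega)] at this
      omega⟩
    have hyl : ∀ i, ¬ IsConj y (ι (r (l i))) := fun i hc => by
      obtain ⟨g, hg⟩ := isConj_iff.mp hc
      have hsq : ι (r (l i)) * ι (r (l i)) = 1 := by
        rw [← hg, show g * y * g⁻¹ * (g * y * g⁻¹) = g * (y * y) * g⁻¹ by group, hy2, mul_one, mul_inv_cancel]
      rcases d.eq_one_or_zz hsq with h1 | h1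
      · exact d.rot_ne_one (hl0 i) h1
      · rw [h1] at hc; exact hnc hc
    let x : Fin (h + 1) → G := Fin.cons y fun i => ι (r (l i))
    have h2 := blockRank_add_le_of_nonfused hM hmax x
      (Fin.cases ⟨hy, hy1⟩ fun i => ⟨d.mem _, d.rot_ne_one (hl0 i)⟩) ?_
    · have h3 : (bset B).card = h + 3 := by
        rw [← hcard, Nat.card_eq_card_toFinset, show B.toFinset = bset B by ext χ; simp]
      rw [hl, h3] at h2
      omega
    intro i
    refine Fin.cases (fun j => ?_) (fun i j => ?_) i
    · refine Fin.cases (fun hij => absurd rfl hij) (fun j _ b b' _ _ g hg _ => ?_) j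
      exact hyl j (isConj_iff.mpr ⟨g, hg⟩).symm
    · refine Fin.cases (fun _ b b' _ _ g hg _ => ?_) (fun j hij b b' hb hb' g hg hgb => ?_) j
      · exact hyl i (isConj_iff.mpr ⟨g, hg⟩)
      · have hne : i ≠ j := fun he => hij (by rw [he])
        rcases rot_fusion hM hmax d hb hb' hg hgb with h4 | h4
        · exact (hlne j i hne.symm).1 h4
        · exact (hlne j i hne.symm).2 h4
  exact fun u hu v hv hu2 hu1 hv2 hv1 => (hto u hu hu2 hu1).trans (hto v hv hv2 hv1).symm

/-- With three modular characters every involution of a dihedral defect group is conjugate to the central one. -/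
theorem involutions_conj_of_rank_three {M : Ideal AlgInt} [M.IsMaximal] (hM : IsPModular 2 M)
    {B : Set (IrrCharacter G)} (hB : IsPBlock M B) {D : Subgroup G}
    (hD : IsDefectGroup 2 M B D) {k : ℕ} (hk : 1 ≤ k) (ε : D ≃* DihedralGroup (2 ^ (k + 1)))
    (hl : blockRank 2 B = 3) :
    ∀ u ∈ D, ∀ v ∈ D, u * u = 1 → u ≠ 1 → v * v = 1 → v ≠ 1 → IsConj u v := by
  have : Fact (Nat.Prime 2) := ⟨Nat.prime_two⟩
  obtain ⟨hcard, -⟩ := dihedral_defect_invariants hM hB hD hk ε
  obtain ⟨e, hmax⟩ := exists_maximal_at hM hB hD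
  set ι : DihedralGroup (2 ^ (k + 1)) →* G := D.subtype.comp ε.symm.toMonoidHom with hι
  have d : DData D ι (2 ^ k) :=
    { inj := D.subtype_injective.comp ε.symm.injective
      range := by
        ext x
        refine ⟨?_, fun hx => ⟨ε ⟨x, hx⟩, ?_⟩⟩
        · rintro ⟨y, rfl⟩
          exact (ε.symm y).2
        · simp [hι]
      hm := by rw [pow_succ]; ring
      hpos := Nat.pos_of_ne_zero (pow_ne_zero _ two_ne_zero)
      even := Nat.even_pow.mpr ⟨even_two, by omega⟩
      pow := ⟨k + 1, rfl⟩ }
  exact involutions_conj_of_data hM hmax d hcard hl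

end CfsgLib.RankThree
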