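import Cfsg.Agent.Lib.LocalEven.Basic
import Cfsg.Agent.Lib.Solvable.Fitting
import Mathlib.GroupTheory.SpecificGroups.Dihedral

/-!
# Solvable groups with a Sylow 2-subgroup with a cyclic subgroup of index two

* `exists_odd_rep`: with trivial odd core and a unique cyclic subgroup of index two in the Sylow subgroup,
  all nonidentity elements of odd order are conjugate.
-/

set_option autoImplicit false

namespace CfsgLib.RankThree

open scoped Classical

variable {G : Type*} [Group G] [Finite G]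

/-- An element of odd order fixing a `2`-element `u` and moving `r` to `r u` fixes `r`. -/
theorem oddFix_eq_one {x r u : G} (hx : Odd (orderOf x)) (hxr : x * r * x⁻¹ = r * u)
    (hxu : Commute x u) {n : ℕ} (hu : orderOf u = 2 ^ n) : u = 1 := by
  have key : ∀ k : ℕ, x ^ k * r * (x ^ k)⁻¹ = r * u ^ k := by
    intro k
    induction k with
    | zero => simp
    | succ k ih =>
      calc x ^ (k + 1) * r * (x ^ (k + 1))⁻¹ = x * (x ^ k * r * (x ^ k)⁻¹) * x⁻¹ := by rw [pow_succ']; group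
        _ = x * r * x⁻¹ * (x * u ^ k * x⁻¹) := by rw [ih]; group
        _ = r * u * u ^ k := by rw [hxr, (hxu.pow_right k).eq, mul_inv_cancel_right]
        _ = r * u ^ (k + 1) := by rw [pow_succ', mul_assoc]
  have h := key (orderOf x)
  rw [pow_orderOf_eq_one, one_mul, inv_one, mul_one, left_eq_mul] at h
  refine orderOf_eq_one_iff.1 ?_
  exact Nat.eq_one_of_dvd_coprimes ((Nat.coprime_two_left.2 hx).pow_left n) (hu ▸ dvd_refl _)
    (orderOf_dvd_of_pow_eq_one h)

/-- An element of odd order normalizing a cyclic `2`-group centralizes it. -/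
theorem oddNormalizing_commute {x : G} (hx : Odd (orderOf x)) :
    ∀ (n : ℕ) (d : G), orderOf d = 2 ^ n → x * d * x⁻¹ ∈ Subgroup.zpowers d → Commute x d := by
  intro n
  induction n with
  | zero =>
    intro d hd _
    rw [pow_zero, orderOf_eq_one_iff] at hd
    rw [hd]; exact Commute.one_right x
  | succ n ih =>
    intro d hd hxd
    obtain ⟨j, hj⟩ := Subgroup.mem_zpowers_iff.1 hxd
    have hd2 : orderOf (d ^ 2) = 2 ^ n := by
      rw [orderOf_pow_of_dvd two_ne_zero (hd ▸ dvd_pow_self 2 n.succ_ne_zero), hd, pow_succ,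
        Nat.mul_div_cancel _ two_pos]
    have hc2 : Commute x (d ^ 2) := ih _ hd2 (Subgroup.mem_zpowers_iff.2 ⟨j, by
      rw [← conj_pow, ← hj, ← zpow_natCast, ← zpow_natCast, ← zpow_mul, ← zpow_mul, mul_comm]⟩)
    set u := d⁻¹ * (x * d * x⁻¹) with hu
    have hud : u = d ^ (j - 1) := by rw [hu, ← hj, zpow_sub, zpow_one]; exact (((Commute.refl d).zpow_left j).inv_right).eq.symm
    have hcd : Commute d u := hud ▸ (Commute.refl d).zpow_right _
    have hu2 : u * u = 1 := by
      have h1 : x * d * x⁻¹ = d * u := by rw [hu]; group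
      have h2 : x * (d ^ 2) * x⁻¹ = d ^ 2 := by rw [hc2.eq, mul_inv_cancel_right]
      rw [← conj_pow, h1, hcd.mul_pow, mul_eq_left, sq] at h2
      exact h2
    have hxu : Commute x u := by
      rcases Int.even_or_odd (j - 1) with ⟨l, hl⟩ | ⟨l, hl⟩
      · rw [hud, hl, ← two_mul, zpow_mul, zpow_two, ← pow_two]
        exact hc2.zpow_right l
      · have h2 : (d ^ 2) ^ (1 + 2 * l) = 1 := by
          rw [← zpow_natCast, ← zpow_mul, show ((2 : ℕ) : ℤ) * (1 + 2 * l) = (j - 1) + (j - 1) by rw [hl]; push_cast; ring,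
            zpow_add, ← hud, hu2]
        have hd21 : d ^ 2 = 1 := by
          rw [← orderOf_eq_one_iff, hd2]
          have h3 : ((2 ^ n : ℕ) : ℤ) ∣ 1 + 2 * l := hd2 ▸ orderOf_dvd_iff_zpow_eq_one.2 h2
          rcases n with _ | n
          · rfl
          · exfalso
            have : (2 : ℤ) ∣ 1 + 2 * l := dvd_trans (by simp [pow_succ]) h3
            omega
        have hud' : u = d := by
          rw [hud, hl, zpow_add, zpow_mul, zpow_one, zpow_two, ← sq, hd21, one_zpow, one_mul]
        exfalso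
        have h4 : x * d * x⁻¹ = 1 := by
          have : x * d * x⁻¹ = d * u := by rw [hu]; group
          rw [this, hud', ← sq, hd21]
        rw [conj_eq_one_iff] at h4
        rw [h4, orderOf_one] at hd
        exact absurd hd.symm (Nat.pow_eq_one.not.2 (by simp))
    obtain ⟨k, -, hk⟩ := (Nat.dvd_prime_pow Nat.prime_two).1
      (orderOf_dvd_of_pow_eq_one (show u ^ 2 ^ 1 = 1 by rw [pow_one, sq, hu2]))
    have := oddFix_eq_one hx (show x * d * x⁻¹ = d * u by rw [hu]; group) hxu hk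
    rw [hu, inv_mul_eq_one] at this
    exact (mul_inv_eq_iff_eq_mul.1 this.symm : x * d = d * x)

/-- `R` has a cyclic subgroup `⟨d⟩` of index two and a self-centralizing action: elements of odd order normalizing
`⟨d⟩` and `R` are trivial. -/
theorem oddIndexTwo_eq_one {R : Subgroup G} {d : G} (hR : IsPGroup 2 ↥R) (hdR : d ∈ R)
    (hidx : (Subgroup.zpowers d).relIndex R ∣ 2) (hCR : Subgroup.centralizer (R : Set G) ≤ R) {y : G}
    (hy : Odd (orderOf y)) (hyR : y ∈ Subgroup.normalizer (R : Set G)) (hyd : y * d * y⁻¹ ∈ Subgroup.zpowers d) :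
    y = 1 := by
  obtain ⟨n, hn⟩ := IsPGroup.iff_orderOf.1 hR ⟨d, hdR⟩
  rw [Subgroup.orderOf_mk] at hn
  have hc : Commute y d := oddNormalizing_commute hy n d hn hyd
  have hDR : Subgroup.zpowers d ≤ R := Subgroup.zpowers_le.2 hdR
  have hcy : y ∈ Subgroup.centralizer (R : Set G) := by
    refine Subgroup.mem_centralizer_iff.2 fun r hr => ?_
    have hcD : ∀ z ∈ Subgroup.zpowers d, Commute y z := fun z hz => by
      obtain ⟨j, rfl⟩ := Subgroup.mem_zpowers_iff.1 hz
      exact hc.zpow_right j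
    by_cases hrD : r ∈ Subgroup.zpowers d
    · exact ((hcD r hrD).eq).symm
    have h2 : (Subgroup.zpowers d).relIndex R = 2 := by
      rcases (Nat.dvd_prime Nat.prime_two).1 hidx with h | h
      · exact absurd (Subgroup.relIndex_eq_one.1 h hr) hrD
      · exact h
    have hr' : y * r * y⁻¹ ∈ R := (Subgroup.mem_normalizer_iff.1 hyR r).1 hr
    have hr'D : y * r * y⁻¹ ∉ Subgroup.zpowers d := fun h => hrD (by
      have h5 : y⁻¹ * (y * r * y⁻¹) * y = y * r * y⁻¹ := by
        rw [mul_assoc, ← (hcD _ h).eq, inv_mul_cancel_left]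
      rw [show y⁻¹ * (y * r * y⁻¹) * y = r by group] at h5
      rwa [← h5] at h)
    have hu : r⁻¹ * (y * r * y⁻¹) ∈ Subgroup.zpowers d := by
      have := (Subgroup.mul_mem_iff_of_index_two (H := (Subgroup.zpowers d).subgroupOf R) h2
        (a := ⟨r, hr⟩⁻¹) (b := ⟨y * r * y⁻¹, hr'⟩)).2 (by
          simp only [Subgroup.mem_subgroupOf, inv_mem_iff]
          exact iff_of_false hrD hr'D)
      exact this
    obtain ⟨k, hk⟩ := IsPGroup.iff_orderOf.1 hR ⟨_, hDR hu⟩
    rw [Subgroup.orderOf_mk] at hk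
    have h1 := oddFix_eq_one hy (show y * r * y⁻¹ = r * (r⁻¹ * (y * r * y⁻¹)) by group) (hcD _ hu) hk
    rw [inv_mul_eq_one] at h1
    exact mul_inv_eq_iff_eq_mul.1 h1.symm |>.symm
  obtain ⟨k, hk⟩ := IsPGroup.iff_orderOf.1 hR ⟨y, hCR hcy⟩
  rw [Subgroup.orderOf_mk] at hk
  refine orderOf_eq_one_iff.1 (Nat.eq_one_of_dvd_coprimes ((Nat.coprime_two_left.2 hy).pow_left k) (hk ▸ dvd_refl _) dvd_rfl)

/-- In a permutation group of degree three a transposition inverts a three-cycle. -/
theorem perm_three_inverts : ∀ σ τ : Equiv.Perm (Fin 3), σ ≠ 1 → σ ^ 3 = 1 →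
    τ ∉ ({1, σ, σ ^ 2} : Finset (Equiv.Perm (Fin 3))) → τ * σ * τ⁻¹ = σ⁻¹ := by decide

/-- Degree three: an element of odd order has order dividing three. -/
theorem perm_three_odd : ∀ σ : Equiv.Perm (Fin 3), σ ^ 2 = 1 ∨ σ ^ 3 = 1 := by decide

/-- A set with at most three points maps its permutations into those of three points, injectively. -/
theorem exists_perm_three {S : Type*} [Finite S] (hS : Nat.card S ≤ 3) :
    ∃ ψ : Equiv.Perm S →* Equiv.Perm (Fin 3), Function.Injective ψ := by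
  let _ := Fintype.ofFinite S
  obtain ⟨f⟩ : Nonempty (S ↪ Fin 3) := Function.Embedding.nonempty_of_card_le (by
    rw [Fintype.card_fin, ← Nat.card_eq_fintype_card]; exact hS)
  exact ⟨Equiv.Perm.viaEmbeddingHom f, Equiv.Perm.viaEmbeddingHom_injective f⟩

/-- Membership in an index two subgroup of a product. -/
theorem mul_mem_iff_two {R H : Subgroup G} (h2 : H.relIndex R = 2) {a b : G} (ha : a ∈ R) (hb : b ∈ R) :
    a * b ∈ H ↔ (a ∈ H ↔ b ∈ H) :=
  Subgroup.mul_mem_iff_of_index_two (H := H.subgroupOf R) h2 (a := ⟨a, ha⟩) (b := ⟨b, hb⟩)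

/-- Index two subgroups agreeing on an element agree on its powers. -/
theorem zpow_mem_iff_of_two {R H H' : Subgroup G} {d : G} (hd : d ∈ R) (h2 : H.relIndex R = 2)
    (h2' : H'.relIndex R = 2) (h : d ∈ H ↔ d ∈ H') (i : ℤ) : d ^ i ∈ H ↔ d ^ i ∈ H' := by
  induction i using Int.induction_on with
  | zero => simp
  | succ k ih =>
    rw [zpow_add_one, mul_mem_iff_two h2 (R.zpow_mem hd _) hd, mul_mem_iff_two h2' (R.zpow_mem hd _) hd, ih, h]
  | pred k ih =>
    rw [zpow_sub_one, mul_mem_iff_two h2 (R.zpow_mem hd _) (R.inv_mem hd),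
      mul_mem_iff_two h2' (R.zpow_mem hd _) (R.inv_mem hd), ih, inv_mem_iff, inv_mem_iff, h]

/-- A group with a cyclic subgroup of index at most two has at most three subgroups of index two. -/
theorem card_index_two_le {R : Subgroup G} {d : G} (hdR : d ∈ R) (hidx : (Subgroup.zpowers d).relIndex R ∣ 2) :
    Nat.card {H : Subgroup G // H ≤ R ∧ H.relIndex R = 2} ≤ 3 := by
  obtain ⟨r, hr, hgen⟩ : ∃ r ∈ R, ∀ a ∈ R, a ∈ Subgroup.zpowers d ∨ r⁻¹ * a ∈ Subgroup.zpowers d := by
    rcases (Nat.dvd_prime Nat.prime_two).1 hidx with h | h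
    · exact ⟨1, R.one_mem, fun a ha => Or.inl (Subgroup.relIndex_eq_one.1 h ha)⟩
    · obtain ⟨r, hr, hrd⟩ : ∃ r ∈ R, r ∉ Subgroup.zpowers d := by
        by_contra hc
        push Not at hc
        rw [Subgroup.relIndex_eq_one.2 hc] at h
        omega
      refine ⟨r, hr, fun a ha => or_iff_not_imp_left.2 fun had => ?_⟩
      exact (Subgroup.mul_mem_iff_of_index_two (H := (Subgroup.zpowers d).subgroupOf R) h
        (a := ⟨r, hr⟩⁻¹) (b := ⟨a, ha⟩)).2 (by
          simp only [Subgroup.mem_subgroupOf, inv_mem_iff]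
          exact iff_of_false hrd had)
  let φ : {H : Subgroup G // H ≤ R ∧ H.relIndex R = 2} → {b : Bool × Bool // b ≠ (true, true)} := fun H =>
    ⟨(decide (d ∈ H.1), decide (r ∈ H.1)), fun h => by
      simp only [Prod.mk.injEq, decide_eq_true_eq] at h
      have hle : R ≤ H.1 := fun a ha => by
        rcases hgen a ha with h' | h'
        · exact Subgroup.zpowers_le.2 h.1 h'
        · simpa using H.1.mul_mem h.2 (Subgroup.zpowers_le.2 h.1 h')
      have h2 := H.2.2
      rw [Subgroup.relIndex_eq_one.2 hle] at h2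
      omega⟩
  have hφ : Function.Injective φ := by
    rintro ⟨H, hH, hH2⟩ ⟨H', hH', hH'2⟩ h
    simp only [φ, Subtype.mk.injEq, Prod.mk.injEq, decide_eq_decide] at h
    refine Subtype.ext (le_antisymm ?_ ?_)
    all_goals intro a ha
    · have haR := hH ha
      rcases hgen a haR with h' | h'
      · obtain ⟨i, rfl⟩ := Subgroup.mem_zpowers_iff.1 h'
        exact (zpow_mem_iff_of_two hdR hH2 hH'2 h.1 i).1 ha
      · obtain ⟨i, hi⟩ := Subgroup.mem_zpowers_iff.1 h'
        have e : a = r * d ^ i := by rw [hi]; group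
        rw [e] at ha ⊢
        have m1 := mul_mem_iff_two hH2 hr (Subgroup.zpow_mem R hdR i)
        have m2 := mul_mem_iff_two hH'2 hr (Subgroup.zpow_mem R hdR i)
        rw [m2, ← h.2, ← zpow_mem_iff_of_two hdR hH2 hH'2 h.1 i]
        exact m1.1 ha
    · have haR := hH' ha
      rcases hgen a haR with h' | h'
      · obtain ⟨i, rfl⟩ := Subgroup.mem_zpowers_iff.1 h'
        exact (zpow_mem_iff_of_two hdR hH2 hH'2 h.1 i).2 ha
      · obtain ⟨i, hi⟩ := Subgroup.mem_zpowers_iff.1 h'
        have e : a = r * d ^ i := by rw [hi]; group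
        rw [e] at ha ⊢
        have m1 := mul_mem_iff_two hH2 hr (Subgroup.zpow_mem R hdR i)
        have m2 := mul_mem_iff_two hH'2 hr (Subgroup.zpow_mem R hdR i)
        rw [m1, h.2, zpow_mem_iff_of_two hdR hH2 hH'2 h.1 i]
        exact m2.1 ha
  exact (Nat.card_le_card_of_injective φ hφ).trans (by rw [Nat.card_eq_fintype_card]; decide)

/-- With trivial odd core, the nonidentity elements of odd order form at most one class. -/
theorem exists_odd_rep [Group.IsSolvable G] (hO : Cfsg.pPrimeCore 2 G = ⊥) (T : Sylow 2 G) {c : G}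
    (hc : c ∈ (T : Subgroup G)) (hcard : Nat.card ↥(T : Subgroup G) = orderOf c * 2)
    (huniq : ∀ t ∈ (T : Subgroup G), orderOf t = orderOf c → t ∈ Subgroup.zpowers c) :
    ∃ y : G, ∀ g : G, Odd (orderOf g) → g = 1 ∨ IsConj g y := by
  have : Fact (Nat.Prime 2) := ⟨Nat.prime_two⟩
  set R := Cfsg.pCore 2 G with hRdef
  have hRn : R.Normal := inferInstance
  have hRp : IsPGroup 2 ↥R := CfsgLib.Cores.isPGroup_pCore 2
  have hRT : R ≤ (T : Subgroup G) := CfsgLib.Cores.pCore_le_sylow T
  have hCR : Subgroup.centralizer (R : Set G) ≤ R := by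
    have h := CfsgLib.Solvable.centralizer_fittingSubgroup_le (G := G)
    rwa [CfsgLib.Solvable.fittingSubgroup_eq_pCore_of_pPrimeCore_eq_bot 2 hO] at h
  obtain ⟨d, hdR, hD⟩ : ∃ d ∈ R, Subgroup.zpowers d = R ⊓ Subgroup.zpowers c := by
    have hcy : IsCyclic ↥(R ⊓ Subgroup.zpowers c) :=
      isCyclic_of_injective _ (Subgroup.inclusion_injective (inf_le_right : R ⊓ Subgroup.zpowers c ≤ Subgroup.zpowers c))
    obtain ⟨⟨g, hg⟩, hgen⟩ := hcy.exists_generator
    refine ⟨g, hg.1, le_antisymm (Subgroup.zpowers_le.2 hg) fun z hz => ?_⟩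
    obtain ⟨j, hj⟩ := Subgroup.mem_zpowers_iff.1 (hgen ⟨z, hz⟩)
    exact Subgroup.mem_zpowers_iff.2 ⟨j, congrArg Subtype.val hj⟩
  have h1 : (Subgroup.zpowers c).relIndex (T : Subgroup G) = 2 := by
    have h := Subgroup.relIndex_mul_relIndex ⊥ (Subgroup.zpowers c) (T : Subgroup G) bot_le
      (Subgroup.zpowers_le.2 hc)
    rw [Subgroup.relIndex_bot_left, Subgroup.relIndex_bot_left, Nat.card_zpowers, hcard] at h
    exact Nat.eq_of_mul_eq_mul_left (orderOf_pos c) h
  have hidx : (Subgroup.zpowers d).relIndex R ∣ 2 := by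
    rw [hD, Subgroup.inf_relIndex_left]
    have h3 := Subgroup.relIndex_le_of_le_right (H := Subgroup.zpowers c) hRT (by rw [h1]; norm_num)
    rw [h1] at h3
    have h4 : (Subgroup.zpowers c).relIndex R ≠ 0 := Subgroup.index_ne_zero_of_finite
    rcases (by omega : (Subgroup.zpowers c).relIndex R = 1 ∨ (Subgroup.zpowers c).relIndex R = 2) with h | h <;>
      rw [h] <;> norm_num
  have hodd1 : ∀ y : G, Odd (orderOf y) → y * d * y⁻¹ ∈ Subgroup.zpowers d → y = 1 := fun y hy hyd =>
    oddIndexTwo_eq_one hRp hdR hidx hCR hy (by rw [Subgroup.normalizer_eq_top]; trivial) hyd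
  by_cases hall : ∀ g : G, Odd (orderOf g) → g = 1
  · exact ⟨1, fun g hg => Or.inl (hall g hg)⟩
  push Not at hall
  obtain ⟨y, hy, hy1⟩ := hall
  have hidx2 : (Subgroup.zpowers d).relIndex R = 2 := by
    rcases (Nat.dvd_prime Nat.prime_two).1 hidx with h | h
    · exact absurd (hodd1 y hy (Subgroup.relIndex_eq_one.1 h (hRn.conj_mem d hdR y))) hy1
    · exact h
  -- the action on the subgroups of index two
  let cg : G → Subgroup G ≃ Subgroup G := fun g =>
    (MulAut.conj g).mapSubgroup.toEquiv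
  have hcgR : ∀ g, R.map (MulAut.conj g).toMonoidHom = R := fun g => by
    apply le_antisymm
    · rintro _ ⟨a, ha, rfl⟩
      exact hRn.conj_mem a ha g
    · intro a ha
      exact ⟨g⁻¹ * a * g, by simpa using hRn.conj_mem a ha g⁻¹, by simp [mul_assoc]⟩
  have hmem : ∀ (g : G) (H : Subgroup G), H ≤ R ∧ H.relIndex R = 2 →
      H.map (MulAut.conj g).toMonoidHom ≤ R ∧ (H.map (MulAut.conj g).toMonoidHom).relIndex R = 2 := fun g H h => by
    refine ⟨(Subgroup.map_mono h.1).trans_eq (hcgR g), ?_⟩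
    rw [← hcgR g, Subgroup.relIndex_map_map_of_injective _ _ (MulAut.conj g).injective, h.2]
  let S := {H : Subgroup G // H ≤ R ∧ H.relIndex R = 2}
  let act : MulAction G S :=
    { smul := fun g H => ⟨H.1.map (MulAut.conj g).toMonoidHom, hmem g H.1 H.2⟩
      one_smul := fun H => Subtype.ext (by
        show H.1.map (MulAut.conj (1 : G)).toMonoidHom = H.1
        rw [map_one]; exact Subgroup.map_id _)
      mul_smul := fun a b H => Subtype.ext (by
        show H.1.map (MulAut.conj (a * b)).toMonoidHom =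
          (H.1.map (MulAut.conj b).toMonoidHom).map (MulAut.conj a).toMonoidHom
        rw [Subgroup.map_map, map_mul]; rfl) }
  obtain ⟨ψ, hψ⟩ := exists_perm_three (S := S) (card_index_two_le hdR hidx)
  let φ : G →* Equiv.Perm (Fin 3) := ψ.comp (MulAction.toPermHom G S)
  have hker : ∀ g : G, Odd (orderOf g) → φ g = 1 → g = 1 := fun g hg h => by
    refine hodd1 g hg ?_
    have h2 : MulAction.toPermHom G S g = 1 := hψ (h.trans (map_one ψ).symm)
    have h3 := congrArg Subtype.val (Equiv.Perm.congr_fun h2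
      ⟨Subgroup.zpowers d, Subgroup.zpowers_le.2 hdR, hidx2⟩)
    have h4 : g * d * g⁻¹ ∈ (Subgroup.zpowers d).map (MulAut.conj g).toMonoidHom :=
      ⟨d, Subgroup.mem_zpowers d, rfl⟩
    exact h3.le h4
  have h3 : ∀ g : G, Odd (orderOf g) → φ g ^ 3 = 1 := fun g hg => by
    rcases perm_three_odd (φ g) with h | h
    · have h' : orderOf (φ g) = 1 := Nat.eq_one_of_dvd_coprimes (Nat.coprime_two_left.2 hg)
        (orderOf_dvd_of_pow_eq_one h) (orderOf_map_dvd φ g)
      rw [orderOf_eq_one_iff.1 h', one_pow]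
    · exact h
  set σ := φ y with hσdef
  have hσ : σ ≠ 1 := fun h => hy1 (hker y hy h)
  have hσ3 := h3 y hy
  have : Fact (Nat.Prime 3) := ⟨Nat.prime_three⟩
  have hord : ∀ g : G, Odd (orderOf g) → g ≠ 1 → orderOf g = 3 := fun g hg hg1 => by
    have h := hker (g ^ 3) (hg.of_dvd_nat (orderOf_pow_dvd 3)) (by rw [map_pow, h3 g hg])
    exact orderOf_eq_prime h hg1
  set A := Subgroup.zpowers σ with hA
  have hAmem : ∀ τ : Equiv.Perm (Fin 3), τ ∈ ({1, σ, σ ^ 2} : Finset (Equiv.Perm (Fin 3))) → τ ∈ A := fun τ h => by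
    simp only [Finset.mem_insert, Finset.mem_singleton] at h
    rcases h with rfl | rfl | rfl
    · exact A.one_mem
    · exact Subgroup.mem_zpowers σ
    · exact A.pow_mem (Subgroup.mem_zpowers σ) 2
  set H := A.comap φ with hH
  have hyH : y ∈ H := Subgroup.mem_zpowers σ
  -- a two-element acts as a transposition
  obtain ⟨t, ht, htA⟩ : ∃ t ∈ (T : Subgroup G), φ t ∉ A := by
    by_contra hc'
    push Not at hc'
    have htker : ∀ t ∈ (T : Subgroup G), φ t = 1 := fun t ht => by
      obtain ⟨k, hk⟩ := IsPGroup.iff_orderOf.1 T.2 ⟨t, ht⟩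
      rw [Subgroup.orderOf_mk] at hk
      refine orderOf_eq_one_iff.1 (Nat.eq_one_of_dvd_coprimes ((Nat.coprime_primes Nat.prime_two Nat.prime_three).2 (by omega) |>.pow_left k)
        (hk ▸ orderOf_map_dvd φ t) ?_)
      have := Subgroup.orderOf_dvd_natCard A (hc' t ht)
      rwa [Nat.card_zpowers, orderOf_eq_prime hσ3 hσ] at this
    have hTK : (T : Subgroup G) ≤ φ.ker := fun t ht => htker t ht
    have hK2 : IsPGroup 2 φ.ker := IsPGroup.iff_orderOf.2 fun g => by
      obtain ⟨k, m, hm, hkm⟩ := Nat.exists_eq_pow_mul_and_not_dvd (orderOf_pos g).ne' 2 (by norm_num)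
      refine ⟨k, ?_⟩
      have h := hker ((g : G) ^ 2 ^ k) ?_ (by rw [map_pow, MonoidHom.mem_ker.1 g.2, one_pow])
      · refine Nat.dvd_antisymm ?_ ?_
        · rw [← Subgroup.orderOf_coe]; exact orderOf_dvd_of_pow_eq_one h
        · rw [hkm]; exact dvd_mul_right _ _
      · rw [orderOf_pow_of_dvd (by positivity) (by rw [Subgroup.orderOf_coe, hkm]; exact dvd_mul_right _ _),
          Subgroup.orderOf_coe, hkm, Nat.mul_div_cancel_left _ (by positivity)]
        exact Nat.not_even_iff_odd.1 fun he => hm (even_iff_two_dvd.1 he)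
    have hTR : R = (T : Subgroup G) :=
      le_antisymm hRT (hTK.trans (CfsgLib.Cores.le_pCore hK2))
    have hdc : orderOf d = orderOf c := by
      rw [← Nat.card_zpowers, hD, inf_eq_right.2 (hTR ▸ Subgroup.zpowers_le.2 hc), Nat.card_zpowers]
    refine hy1 (hodd1 y hy ?_)
    have hcz : Subgroup.zpowers d = Subgroup.zpowers c := by
      rw [hD, inf_eq_right.2 (hTR ▸ Subgroup.zpowers_le.2 hc)]
    rw [hcz]
    refine huniq _ (hTR ▸ hRn.conj_mem d hdR y) ?_
    rw [← hdc]
    exact MulEquiv.orderOf_eq (MulAut.conj y) d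
  have hτ : φ t * σ * (φ t)⁻¹ = σ⁻¹ := perm_three_inverts σ (φ t) hσ hσ3 fun h => htA (hAmem _ h)
  -- Sylow 3-subgroups
  have hcard3 : ∀ (L : Subgroup G) (P : Sylow 3 L), y ∈ L → Nat.card P = 3 := fun L P hyL => by
    obtain ⟨k, hk⟩ := IsPGroup.iff_card.1 P.2
    have hinj : Function.Injective (fun a : (P : Subgroup L) => φ ((a : L) : G)) := by
      intro a b hab
      have hod : Odd (orderOf (((a : L) : G) * ((b : L) : G)⁻¹)) := by
        obtain ⟨j, hj⟩ := IsPGroup.iff_orderOf.1 P.2 (a * b⁻¹)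
        have : orderOf (((a : L) : G) * ((b : L) : G)⁻¹) = orderOf (a * b⁻¹) := by
          rw [← Subgroup.orderOf_coe, ← Subgroup.orderOf_coe]; rfl
        rw [this, hj]
        exact (by decide : Odd 3).pow
      have h := hker _ hod (by rw [map_mul, map_inv, show φ ((a : L) : G) = φ ((b : L) : G) from hab, mul_inv_cancel])
      exact Subtype.ext (Subtype.ext (mul_inv_eq_one.1 h))
    have hle := Nat.card_le_card_of_injective _ hinj
    rw [Nat.card_eq_fintype_card (α := Equiv.Perm (Fin 3)), Fintype.card_perm, Fintype.card_fin, hk] at hle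
    have h3dvd : 3 ∣ Nat.card L := by
      rw [← hord y hy hy1]; exact Subgroup.orderOf_dvd_natCard L hyL
    have hk0 : k ≠ 0 := fun h0 => by
      have := P.dvd_card_of_dvd_card h3dvd
      rw [hk, h0] at this
      omega
    have hk1 : k = 1 := by
      by_contra hne
      have : 3 ^ 2 ≤ 3 ^ k := Nat.pow_le_pow_right (by norm_num) (by omega)
      simp [Nat.factorial] at hle
      omega
    rw [hk, hk1, pow_one]
  have hconj : ∀ (L : Subgroup G), y ∈ L → ∀ a ∈ L, orderOf a = 3 →
      ∃ g ∈ L, a = g * y * g⁻¹ ∨ a = g * y⁻¹ * g⁻¹ := fun L hyL a haL ha => by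
    have hz : ∀ b : L, orderOf (b : G) = 3 → ∃ P : Sylow 3 L, (P : Subgroup L) = Subgroup.zpowers b := fun b hb => by
      obtain ⟨P, hP⟩ := (IsPGroup.of_card (p := 3) (n := 1) (G := Subgroup.zpowers b)
        (by rw [Nat.card_zpowers, ← Subgroup.orderOf_coe, hb, pow_one])).exists_le_sylow
      refine ⟨P, (Subgroup.eq_of_le_of_card_ge hP ?_).symm⟩
      rw [hcard3 L P hyL, Nat.card_zpowers, ← Subgroup.orderOf_coe, hb]
    obtain ⟨P, hP⟩ := hz ⟨y, hyL⟩ (hord y hy hy1)
    obtain ⟨P', hP'⟩ := hz ⟨a, haL⟩ ha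
    obtain ⟨g, hg⟩ := MulAction.exists_smul_eq L P P'
    refine ⟨g, g.2, ?_⟩
    have h5 : (⟨a, haL⟩ : L) ∈ (P' : Subgroup L) := hP' ▸ Subgroup.mem_zpowers _
    rw [← hg, Sylow.coe_subgroup_smul, Subgroup.mem_pointwise_smul_iff_inv_smul_mem, hP,
      Subgroup.mem_zpowers_iff] at h5
    obtain ⟨i, hi⟩ := h5
    have hi' : (g : G)⁻¹ * a * g = y ^ i := by
      have := congrArg Subtype.val hi
      simpa [MulAut.smul_def] using this.symm
    have hmod : y ^ i = y ^ (i % 3) := by
      rw [show (3 : ℤ) = (orderOf y : ℤ) by rw [hord y hy hy1]; rfl, zpow_mod_orderOf]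
    have h6 : i % 3 = 0 ∨ i % 3 = 1 ∨ i % 3 = 2 := by omega
    have e : a = g * y ^ i * (g : G)⁻¹ := by rw [← hi']; group
    rcases h6 with h | h | h <;> rw [hmod, h] at e
    · rw [zpow_zero, mul_one, mul_inv_cancel] at e
      rw [e, orderOf_one] at ha
      omega
    · exact Or.inl (by rw [e, zpow_one])
    · refine Or.inr ?_
      rw [e]
      congr 2
      refine eq_inv_of_mul_eq_one_left ?_
      rw [← zpow_add_one, show (2 : ℤ) + 1 = ((3 : ℕ) : ℤ) by rfl, zpow_natCast, ← hord y hy hy1, pow_orderOf_eq_one]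
  -- the transposition forces the inverse into the class
  have hinv : IsConj y⁻¹ y := by
    have ht3 : orderOf (t * y * t⁻¹) = 3 := by
      rw [← MulAut.conj_apply, MulEquiv.orderOf_eq, hord y hy hy1]
    have htH : t * y * t⁻¹ ∈ H := by
      show φ _ ∈ A
      rw [map_mul, map_mul, map_inv, hτ]
      exact A.inv_mem (Subgroup.mem_zpowers σ)
    obtain ⟨g, hg, h | h⟩ := hconj H hyH _ htH ht3
    · exfalso
      obtain ⟨i, hi⟩ := Subgroup.mem_zpowers_iff.1 hg
      have h7 := congrArg φ h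
      simp only [map_mul, map_inv, ← hσdef] at h7
      rw [hτ, ← hi, ((Commute.refl σ).zpow_left i).eq, mul_inv_cancel_right] at h7
      apply hσ
      calc σ = σ ^ 3 * (σ⁻¹ * σ⁻¹) := by group
        _ = 1 := by rw [hσ3, one_mul]; nth_rewrite 2 [h7]; exact inv_mul_cancel σ
    · exact isConj_iff.2 ⟨t⁻¹ * g, by rw [mul_inv_rev, inv_inv,
        show t⁻¹ * g * y⁻¹ * (g⁻¹ * t) = t⁻¹ * (g * y⁻¹ * g⁻¹) * t by group, ← h]; group⟩
  refine ⟨y, fun a ha => or_iff_not_imp_left.2 fun ha1 => ?_⟩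
  obtain ⟨g, -, h | h⟩ := hconj ⊤ (Subgroup.mem_top y) a (Subgroup.mem_top a) (hord a ha ha1)
  · exact (isConj_iff.2 ⟨g, h.symm⟩).symm
  · exact ((isConj_iff.2 ⟨g, h.symm⟩ : IsConj y⁻¹ a).symm).trans hinv

end CfsgLib.RankThree
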