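import Cfsg.Agent.Lib.BlockArith.RankThree.CosetRank
import Cfsg.Agent.Lib.BlockArith.RankThree.OddClasses
import Cfsg.Agent.Lib.Modular.PSolvableHeights
import Cfsg.Agent.Lib.Transfer.SolvablePSolvable

/-!
# Solvable groups: at most two modular characters in a block with such a defect group

* `HasCycTwo`: a unique cyclic subgroup of index two;
* `blockRank_le_two`: the bound.
-/

set_option autoImplicit false

noncomputable section

universe u

namespace CfsgLib.RankThree

open Cfsg CfsgLib.Blocks CfsgLib.Char CfsgLib.CharNormal CfsgLib.Cores CfsgLib.Modular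
open scoped Classical

attribute [local instance] CfsgLib.Blocks.resField

/-- An element generating a subgroup of index two which holds all elements of its order. -/
def HasCycTwo (S : Type*) [Group S] : Prop :=
  ∃ c : S, Nat.card S = orderOf c * 2 ∧ ∀ t : S, orderOf t = orderOf c → t ∈ Subgroup.zpowers c

theorem HasCycTwo.congr {S S' : Type*} [Group S] [Group S'] (e : S ≃* S') (h : HasCycTwo S) : HasCycTwo S' := by
  obtain ⟨c, hcard, huniq⟩ := h
  refine ⟨e c, by rw [← Nat.card_congr e.toEquiv, hcard, e.orderOf_eq], fun t ht => ?_⟩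
  obtain ⟨j, hj⟩ := huniq (e.symm t) (by rw [e.symm.orderOf_eq, ht, e.orderOf_eq])
  refine ⟨j, ?_⟩
  change c ^ j = e.symm t at hj
  show e c ^ j = t
  rw [← map_zpow, hj, e.apply_symm_apply]

variable {M : Ideal AlgInt} [M.IsMaximal]

theorem blockRank_le_two_aux (hM : IsPModular 2 M) (k : ℕ) : ∀ (G : Type u) [Group G] [Fintype G],
    Nat.card G = k → Group.IsSolvable G → ∀ B : Set (IrrCharacter G), IsPBlock M B → ∀ D : Subgroup G,
      IsDefectGroup 2 M B D → HasCycTwo ↥D → blockRank 2 B ≤ 2 := by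
  have : Fact (Nat.Prime 2) := ⟨Nat.prime_two⟩
  induction k using Nat.strong_induction_on with
  | _ k ih =>
  intro G _ _ hk hsol B hB D hD hcyc
  obtain ⟨χ, hχ⟩ := IsPBlock.nonempty hB
  have hsolv : IsPSolvable 2 G := CfsgLib.Transfer.isPSolvable_of_isSolvable 2 hsol
  set N := pPrimeCore 2 G with hNdef
  have hN : ¬ 2 ∣ Nat.card N := not_dvd_card_pPrimeCore 2
  let : Fintype N := Fintype.ofFinite _
  obtain ⟨θ, hθirr, hθ⟩ := exists_constituent (isCharacter_res N (isCharacter_of_isIrr χ.2))
    fun h => irr_one_ne_zero χ.2 (by simpa using congrFun h 1)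
  let θ' : IrrCharacter N := ⟨θ, hθirr⟩
  by_cases hinv : inertia N θ = ⊤
  · have hinv' : ∀ g : G, conjFun N g θ = θ := fun g => (mem_inertia N).mp (hinv ▸ Subgroup.mem_top g)
    obtain ⟨Q, hQ⟩ := PSolvableHeights.exists_isOverSetup_core hsolv hinv'
    let : Fintype ↥(pPrimePCore 2 G) := Fintype.ofFinite _
    have := pPrimePCore_normal (G := G) (p := 2)
    set B₀ := {η : IrrCharacter G | classInner (fun k : N => (η : G → ℂ) k) θ ≠ 0}
    have hB₀ : IsPBlock M B₀ := IsOverSetup.isPBlock_over (θ := θ') hM hQ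
    have hBB : B = B₀ := isPBlock_eq_of_mem hB hB₀ hχ hθ
    subst hBB
    obtain ⟨P, rfl⟩ := (IsOverSetup.isDefectGroup_over (θ := θ') hM hQ).2 D hD
    let mk := QuotientGroup.mk' N
    have hPN : Function.Injective (mk.comp (P : Subgroup G).subtype) := by
      rw [← MonoidHom.ker_eq_bot_iff, Subgroup.eq_bot_iff_forall]
      intro x hx
      obtain ⟨j, hj⟩ := IsPGroup.iff_orderOf.mp P.2 x
      have h1 : (x : G) ∈ N := (QuotientGroup.eq_one_iff _).mp hx
      have h2 : orderOf x ∣ Nat.card N := by
        rw [← Subgroup.orderOf_coe]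
        exact (Subgroup.orderOf_coe (⟨_, h1⟩ : N)) ▸ orderOf_dvd_natCard _
      rcases Nat.eq_zero_or_pos j with rfl | hj0
      · exact orderOf_eq_one_iff.mp (by rw [hj, pow_zero])
      · exact absurd ((hj ▸ dvd_pow_self 2 hj0.ne').trans h2) hN
    let Pbar : Sylow 2 (G ⧸ N) := P.mapSurjective (QuotientGroup.mk'_surjective N)
    have hPb : (Pbar : Subgroup (G ⧸ N)) = (P : Subgroup G).map mk := rfl
    obtain ⟨c, hcard, huniq⟩ := hcyc
    have hord : ∀ x : (P : Subgroup G), orderOf (mk (x : G)) = orderOf x := fun x =>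
      orderOf_injective (mk.comp (P : Subgroup G).subtype) hPN x
    have := (inferInstance : Group.IsSolvable (G ⧸ N))
    obtain ⟨y, hy⟩ := exists_odd_rep (G := G ⧸ N) (pPrimeCore_quotient_self 2) Pbar (c := mk (c : G))
      (hPb ▸ Subgroup.mem_map_of_mem mk c.2)
      (by
        rw [hord, ← hcard, hPb]
        have h3 : ((P : Subgroup G).map mk) = (mk.comp (P : Subgroup G).subtype).range := by
          rw [MonoidHom.range_comp, Subgroup.range_subtype]
        rw [h3, ← Nat.card_congr (MonoidHom.ofInjective hPN).toEquiv])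
      fun t ht hot => by
        rw [hPb] at ht
        obtain ⟨s, hs, rfl⟩ := ht
        rw [hord c, show mk s = mk ((⟨s, hs⟩ : (P : Subgroup G)) : G) from rfl, hord] at hot
        obtain ⟨j, hj⟩ := huniq ⟨s, hs⟩ hot
        refine ⟨j, ?_⟩
        show mk (c : G) ^ j = mk s
        rw [← map_zpow]
        exact congrArg mk (congrArg Subtype.val hj)
    refine (blockRank_le_of_over N 2 hθirr hinv' {1, y} (fun x hx => ?_) fun η hη => hη).trans
      ((Finset.card_insert_le _ _).trans (by simp))
    have hx' : Odd (orderOf (mk x)) := by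
      rcases Nat.even_or_odd (orderOf (mk x)) with h | h
      · exact absurd (h.two_dvd.trans (orderOf_map_dvd mk x)) hx
      · exact h
    rcases hy _ hx' with h | h
    · exact ⟨1, by simp, h ▸ IsConj.refl _⟩
    · exact ⟨y, by simp, h⟩
  · set T := inertia N θ with hTdef
    let : Fintype T := Fintype.ofFinite _
    have hNT : N ≤ T := le_inertia N (isClassFunction_of_isIrr hθirr)
    have hb := FongSwan.isPBlock_singleton_pprime hM hN θ'
    have hS : FongReynolds.Stab N T ({θ'} : Set (IrrCharacter N)) := by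
      refine ⟨fun g hg η hη => ?_, fun g η hη h => ?_⟩
      · rw [Set.mem_singleton_iff] at hη ⊢
        subst hη
        exact Subtype.ext ((conjIrr_coe N g θ').trans ((mem_inertia N).mp hg))
      · rw [Set.mem_singleton_iff] at hη h
        subst hη
        exact (mem_inertia N).mpr ((conjIrr_coe N g θ').symm.trans (congrArg Subtype.val h))
    obtain ⟨ψ, hψθ, hψχ⟩ := FongReynolds.exists_constituent_over hS hb hNT (Set.mem_singleton θ') hθ
    have hcov : ∃ ψ' ∈ blockOf M (ψ : T → ℂ), ∃ θ₁ ∈ ({θ'} : Set (IrrCharacter N)),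
        FongReynolds.mul' N T hNT (ψ' : T → ℂ) θ₁ ≠ 0 :=
      ⟨ψ, mem_blockOf_self ψ, θ', Set.mem_singleton _, hψθ⟩
    obtain ⟨B₁, hind, -, -, hmem⟩ := FongReynolds.exists_induced hNT hS hb (isPBlock_blockOf ψ) hcov
    have hBB : B = B₁ := isPBlock_eq_of_mem hB hind.2.1 hχ ((hmem χ).mpr ⟨ψ, mem_blockOf_self ψ, hψχ⟩)
    subst hBB
    obtain ⟨hdef, -⟩ := FongReynolds.defect_of_induced hNT hS hb hM (isPBlock_blockOf ψ) hcov hind
    obtain ⟨D', hD'⟩ := exists_isDefectGroup (p := 2) (M := M) (isPBlock_blockOf ψ)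
    obtain ⟨x, hx⟩ := defectGroups_conj hM hB (hdef D' hD') hD
    let eD : D' ≃* D := (Subgroup.equivMapOfInjective D' T.subtype T.subtype_injective).trans
      (((D'.map T.subtype).equivMapOfInjective (MulAut.conj x).toMonoidHom
        (MulAut.conj x).injective).trans (MulEquiv.subgroupCongr hx))
    have hlt : Nat.card T < k := by
      rw [← hk, ← T.card_mul_index]
      exact lt_mul_of_one_lt_right Nat.card_pos (Subgroup.one_lt_index_of_ne_top hinv)
    exact (blockRank_le_of_induced 2 T fun η hη => (hmem η).mp hη).trans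
      (ih _ hlt T rfl inferInstance _ (isPBlock_blockOf ψ) D' hD' (hcyc.congr eD.symm))

/-- At most two modular characters. -/
theorem blockRank_le_two {G : Type u} [Group G] [Fintype G] [Group.IsSolvable G] (hM : IsPModular 2 M)
    {B : Set (IrrCharacter G)} (hB : IsPBlock M B) {D : Subgroup G} (hD : IsDefectGroup 2 M B D)
    (hcyc : HasCycTwo ↥D) : blockRank 2 B ≤ 2 :=
  blockRank_le_two_aux hM _ G rfl inferInstance B hB D hD hcyc

end CfsgLib.RankThree
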