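import Cfsg.Agent.Lib.BlockArith.RankThree.Fusion
import Cfsg.Agent.Lib.BlockArith.RankThree.Solvable
import Cfsg.Agent.Lib.BlockArith.CyclicQuotientBound
import Cfsg.Agent.Lib.BlockArith.QuotientRank
import Cfsg.Agent.Lib.Invol.QDW.Semidihedral

/-!
# Centre and solvability with three modular characters

* `hasCycTwo_dihedral`, `hasCycTwo_sd`: the dihedral and quasi-dihedral groups;
* `not_central_involution_dihedral`, `not_central_involution_sd`: no central involutions.
-/

set_option autoImplicit false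

noncomputable section

open scoped ComplexConjugate Classical

namespace CfsgLib.RankThree

open Cfsg CfsgLib.Blocks CfsgLib.BlockArith CfsgLib.CycQuotBound CfsgLib.Invol.QDW DihedralGroup

universe u

/-- A dihedral group of order at least eight. -/
theorem hasCycTwo_dihedral {m : ℕ} (hm : 3 ≤ m) : HasCycTwo (DihedralGroup m) := by
  have : NeZero m := ⟨by omega⟩
  refine ⟨r 1, by rw [nat_card, orderOf_r_one, mul_comm], fun t ht => ?_⟩
  rcases t with i | i
  · exact ⟨i.val, by show r 1 ^ ((i.val : ℕ) : ℤ) = r i; rw [zpow_natCast, r_one_pow, ZMod.natCast_rightInverse]⟩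
  · rw [orderOf_sr, orderOf_r_one] at ht
    omega

theorem sd_pow (k : ℕ) (n : ℕ) : (⟨1, false⟩ : Sd k) ^ n = ⟨n, false⟩ := by
  induction n with
  | zero => ext <;> simp
  | succ n ih => rw [pow_succ, ih]; ext <;> simp

theorem orderOf_sd_gen (k : ℕ) : orderOf (⟨1, false⟩ : Sd k) = 2 ^ (k + 3) := by
  refine (orderOf_eq_iff (pow_pos Nat.two_pos _)).mpr ⟨?_, fun j hj hj0 h => ?_⟩
  · rw [sd_pow, Sd.ext_iff]
    exact ⟨ZMod.natCast_self _, rfl⟩
  · rw [sd_pow] at h
    have h1 : (j : ZMod (2 ^ (k + 3))) = 0 := congrArg Sd.i h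
    rw [ZMod.natCast_eq_zero_iff] at h1
    exact absurd (Nat.le_of_dvd hj0 h1) (by omega)

/-- A quasi-dihedral group. -/
theorem hasCycTwo_sd (k : ℕ) : HasCycTwo (Sd k) := by
  refine ⟨⟨1, false⟩, by rw [Sd.card_eq, orderOf_sd_gen, ← pow_succ], fun t ht => ?_⟩
  obtain ⟨i, e⟩ := t
  cases e with
  | false => exact ⟨i.val, by show (⟨1, false⟩ : Sd k) ^ ((i.val : ℕ) : ℤ) = ⟨i, false⟩; rw [zpow_natCast, sd_pow, ZMod.natCast_rightInverse]⟩
  | true =>
    exfalso
    rw [orderOf_sd_gen] at ht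
    have h4 : (⟨i, true⟩ : Sd k) ^ 4 = 1 := by
      rw [show (4 : ℕ) = 2 * 2 from rfl, pow_mul, sq, sq]
      ext
      · simp only [Sd.mul_i, Sd.mul_e, Bool.xor_self, cond_true, cond_false, Sd.one_i]
        rw [Sd.c]
        linear_combination i * (Sd.two_half (k := k))
      · rfl
    have := Nat.le_of_dvd (by norm_num) (ht ▸ orderOf_dvd_of_pow_eq_one h4)
    rw [pow_add] at this
    have := Nat.one_le_two_pow (n := k)
    omega

/-- Sending a quasi-dihedral group onto the dihedral group modulo its centre. -/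
def sdToDihedral (k : ℕ) : Sd k →* DihedralGroup (2 ^ (k + 2)) :=
  MonoidHom.mk' (fun a => cond a.e (sr (-(ZMod.castHom (pow_dvd_pow 2 (by omega : k + 2 ≤ k + 3)) _ a.i)))
    (r (ZMod.castHom (pow_dvd_pow 2 (by omega : k + 2 ≤ k + 3)) _ a.i))) (by
    set π := ZMod.castHom (pow_dvd_pow 2 (by omega : k + 2 ≤ k + 3)) (ZMod (2 ^ (k + 2))) with hπ
    have hc : π (Sd.c k) = -1 := by
      rw [Sd.c, map_sub, map_one, map_natCast, half, ZMod.natCast_self, zero_sub]
    rintro ⟨a, _ | _⟩ ⟨b, _ | _⟩ <;>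
      simp only [Sd.mul_i, Sd.mul_e, Bool.xor_false, Bool.false_xor, Bool.xor_self, Bool.xor_true, Bool.not_false,
        cond_true, cond_false, r_mul_r, r_mul_sr, sr_mul_r, sr_mul_sr, map_add, map_mul, hc] <;>
      congr 1 <;> ring)

theorem sdToDihedral_apply (k : ℕ) (a : Sd k) : sdToDihedral k a =
    cond a.e (sr (-(ZMod.castHom (pow_dvd_pow 2 (by omega : k + 2 ≤ k + 3)) _ a.i)))
      (r (ZMod.castHom (pow_dvd_pow 2 (by omega : k + 2 ≤ k + 3)) _ a.i)) := rfl

theorem sdToDihedral_surjective (k : ℕ) : Function.Surjective (sdToDihedral k) := by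
  have hs := ZMod.castHom_surjective (pow_dvd_pow 2 (by omega : k + 2 ≤ k + 3))
  rintro (i | i)
  · obtain ⟨a, ha⟩ := hs i
    exact ⟨⟨a, false⟩, by rw [sdToDihedral_apply, cond_false, ha]⟩
  · obtain ⟨a, ha⟩ := hs (-i)
    exact ⟨⟨a, true⟩, by rw [sdToDihedral_apply, cond_true, ha, neg_neg]⟩

theorem sdToDihedral_eq_one (k : ℕ) (a : Sd k) : sdToDihedral k a = 1 ↔ a = 1 ∨ a = ⟨half k, false⟩ := by
  obtain ⟨i, e⟩ := a
  rw [sdToDihedral_apply, one_def]
  cases e with
  | true =>
    simp only [cond_true, Sd.ext_iff, Sd.one_e, Bool.true_eq_false, and_false, or_self, iff_false]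
    intro h
    cases h
  | false =>
    simp only [cond_false, r.injEq, Sd.ext_iff, Sd.one_i, Sd.one_e, and_true]
    constructor
    · intro h
      rw [← ZMod.natCast_rightInverse i, map_natCast, ZMod.natCast_eq_zero_iff] at h
      obtain ⟨q, hq⟩ := h
      have hlt := ZMod.val_lt i
      have h3 : 2 ^ (k + 3) = 2 * half k := by rw [half, pow_succ']
      rw [show 2 ^ (k + 2) = half k from rfl] at hq
      replace hlt : half k * q < 2 * half k := by rw [← hq, ← h3]; exact hlt
      have hq2 : q < 2 := by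
        by_contra hge
        have := Nat.mul_le_mul_left (half k) (Nat.le_of_not_lt hge)
        omega
      interval_cases q
      · exact Or.inl ((ZMod.val_eq_zero i).mp (by simpa using hq))
      · refine Or.inr ?_
        rw [← ZMod.natCast_rightInverse i, hq, mul_one]
    · rintro (rfl | rfl)
      · simp
      · rw [map_natCast, half, ZMod.natCast_self]

variable {G : Type u} [Group G] [Fintype G] {M : Ideal AlgInt} [M.IsMaximal]
  {B : Set (IrrCharacter G)} {D : Subgroup G}

/-- A central element generates a normal subgroup. -/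
theorem zpowers_normal_of_center {z : G} (hz : z ∈ Subgroup.center G) : (Subgroup.zpowers z).Normal :=
  ⟨fun x hx g => by rwa [Subgroup.mem_center_iff.mp (Subgroup.zpowers_le.mpr hz hx) g, mul_inv_cancel_right]⟩

/-- An involution in the centre lies in every defect group. -/
theorem central_mem_defect (hM : IsPModular 2 M) (hB : IsPBlock M B) (hD : IsDefectGroup 2 M B D) {z : G}
    (hz : z ∈ Subgroup.center G) (hz2 : orderOf z = 2) : z ∈ D := by
  have : Fact (Nat.Prime 2) := ⟨Nat.prime_two⟩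
  have hn : (Subgroup.zpowers z).Normal := zpowers_normal_of_center hz
  exact normal_le_defect hM hB hD (hQn := hn) (IsPGroup.of_card (n := 1) (by rw [Nat.card_zpowers, hz2, pow_one]))
    (Subgroup.mem_zpowers z)

/-- The dihedral case. -/
theorem not_central_involution_dihedral (hM : IsPModular 2 M) (hB : IsPBlock M B)
    (hD : IsDefectGroup 2 M B D) {k : ℕ} (hk : 1 ≤ k) (ε : D ≃* DihedralGroup (2 ^ (k + 1)))
    (hl : blockRank 2 B = 3) {z : G} (hz : z ∈ Subgroup.center G) : orderOf z ≠ 2 := by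
  intro hz2
  have hzD := central_mem_defect hM hB hD hz hz2
  have hzz : z * z = 1 := by rw [← sq, ← hz2, pow_orderOf_eq_one]
  have hz1 : z ≠ 1 := fun h => by simp [h] at hz2
  have key : ∀ i, ((ε.symm (sr i) : D) : G) = z := fun i => by
    set u := ε.symm (sr i) with hu
    have hu2 : (u : G) * u = 1 := by
      rw [← Subgroup.coe_mul, hu, ← map_mul, sr_mul_self, map_one, Subgroup.coe_one]
    have hu1 : (u : G) ≠ 1 := fun h => by
      have := congrArg ε (show u = 1 from Subtype.ext h)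
      rw [hu, ε.apply_symm_apply, map_one] at this
      cases this
    obtain ⟨g, hg⟩ := isConj_iff.mp
      (involutions_conj_of_rank_three hM hB hD hk ε hl u u.2 z hzD hu2 hu1 hzz hz1).symm
    rw [← hg, Subgroup.mem_center_iff.mp hz g, mul_inv_cancel_right]
  have h01 := ε.symm.injective (Subtype.ext ((key 0).trans (key 1).symm))
  have : Fact (1 < 2 ^ (k + 1)) := ⟨Nat.one_lt_two_pow (by omega)⟩
  exact zero_ne_one (sr.inj h01)

/-- The quasi-dihedral case. -/
theorem not_central_involution_sd (hM : IsPModular 2 M) (hB : IsPBlock M B)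
    (hD : IsDefectGroup 2 M B D) {k : ℕ} (ε : D ≃* Sd k) (hl : blockRank 2 B = 3) {z : G}
    (hz : z ∈ Subgroup.center G) : orderOf z ≠ 2 := by
  intro hz2
  have : Fact (Nat.Prime 2) := ⟨Nat.prime_two⟩
  have hzD := central_mem_defect hM hB hD hz hz2
  have hzz : z * z = 1 := by rw [← sq, ← hz2, pow_orderOf_eq_one]
  have hz1 : z ≠ 1 := fun h => by simp [h] at hz2
  have hεz : ε ⟨z, hzD⟩ = ⟨half k, false⟩ := by
    have hc : ε ⟨z, hzD⟩ ∈ Subgroup.center (Sd k) := Subgroup.mem_center_iff.mpr fun a => by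
      obtain ⟨b, rfl⟩ := ε.surjective a
      rw [← map_mul, ← map_mul]
      exact congrArg ε (Subtype.ext (Subgroup.mem_center_iff.mp hz b))
    obtain ⟨he, h0 | h0⟩ := Sd.mem_center_iff.mp hc
    · exfalso
      have h1 : ε ⟨z, hzD⟩ = 1 := Sd.ext h0 he
      exact hz1 (congrArg Subtype.val (ε.map_eq_one_iff.mp h1))
    · exact Sd.ext h0 he
  let Q := Subgroup.zpowers z
  have hQn : Q.Normal := zpowers_normal_of_center hz
  let _ : Fintype (G ⧸ Q) := Fintype.ofFinite _
  have hQ : IsPGroup 2 Q := IsPGroup.of_card (n := 1) (by rw [Nat.card_zpowers, hz2, pow_one])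
  have hC : ∃ j : ℕ, (Subgroup.centralizer (Q : Set G)).index = 2 ^ j := ⟨0, by
    rw [pow_zero, Subgroup.index_eq_one, Subgroup.centralizer_eq_top_iff_subset]
    exact Subgroup.zpowers_le.mpr hz⟩
  have hmem : ∀ x : G, x ∈ Q ↔ x = 1 ∨ x = z := fun x => by
    refine ⟨fun hx => ?_, fun hx => ?_⟩
    · obtain ⟨j, rfl⟩ := hx
      show z ^ j = 1 ∨ z ^ j = z
      rcases Int.emod_two_eq_zero_or_one j with h | h <;>
        rw [← zpow_mod_orderOf, hz2, Nat.cast_ofNat, h] <;> simp
    · rcases hx with h | h <;> rw [h]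
      · exact Q.one_mem
      · exact Subgroup.mem_zpowers z
  let mk := QuotientGroup.mk' Q
  set D' := D.map mk with hD'def
  have hD' : IsDefectGroup 2 M (inflSet Q B) D' := by
    have hB' := isPBlock_inflSet hM hQ hC hB
    obtain ⟨D₁, hD₁⟩ := exists_isDefectGroup (p := 2) (M := M) hB'
    obtain ⟨y, hy⟩ := exists_defect_le_image hM hQ hC hB hD hD₁
    have h2 := IsDefectGroup.conj hB' hD₁ y
    rwa [hD'def, ← Subgroup.eq_of_le_of_card_ge hy (by
      rw [card_image_eq hM hQ hC hB hD, card_defectGroup hM hB' h2])]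
  let φ : D →* DihedralGroup (2 ^ (k + 2)) := (sdToDihedral k).comp ε.toMonoidHom
  have hφ : Function.Surjective φ := (sdToDihedral_surjective k).comp ε.surjective
  have hker : (mk.comp D.subtype).ker = φ.ker := by
    ext x
    rw [MonoidHom.mem_ker, MonoidHom.mem_ker]
    show (x : G ⧸ Q) = 1 ↔ sdToDihedral k (ε x) = 1
    rw [QuotientGroup.eq_one_iff, hmem, sdToDihedral_eq_one, ← hεz, ε.apply_eq_iff_eq, ε.map_eq_one_iff]
    exact or_congr (by simp) ⟨fun h => Subtype.ext h, fun h => congrArg Subtype.val h⟩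
  let δ : D' ≃* DihedralGroup (2 ^ (k + 1 + 1)) :=
    (MulEquiv.subgroupCongr (show D' = (mk.comp D.subtype).range by
      rw [MonoidHom.range_comp, Subgroup.range_subtype])).trans
      ((QuotientGroup.quotientKerEquivRange _).symm.trans
        ((QuotientGroup.quotientMulEquivOfEq hker).trans (QuotientGroup.quotientKerEquivOfSurjective φ hφ)))
  have hl' : blockRank 2 (inflSet Q B) = 3 := (blockRank_inflSet hM hQ hC hB).symm.trans hl
  set u := ε.symm ⟨0, true⟩ with hu
  set w := ε.symm ⟨(2 ^ (k + 1) : ℕ), false⟩ with hw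
  have hu2 : (u : G) * u = 1 := by
    rw [← Subgroup.coe_mul, hu, ← map_mul, show (⟨0, true⟩ : Sd k) * ⟨0, true⟩ = 1 by ext <;> simp,
      map_one, Subgroup.coe_one]
  have hw2 : (w : G) * w = z := by
    rw [← Subgroup.coe_mul, hw, ← map_mul, show (⟨(2 ^ (k + 1) : ℕ), false⟩ : Sd k) * ⟨(2 ^ (k + 1) : ℕ), false⟩ =
      ⟨half k, false⟩ by
        ext
        · simp only [Sd.mul_i, cond_false]
          rw [← Nat.cast_add, half, pow_succ 2 (k + 1), mul_two]
        · rfl, ← hεz, ε.symm_apply_apply]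
  have hu1 : mk (u : G) ≠ 1 := fun h => by
    rcases (hmem _).mp ((QuotientGroup.eq_one_iff _).mp h) with h1 | h1
    · have := congrArg ε (show u = 1 from Subtype.ext h1)
      rw [hu, ε.apply_symm_apply, map_one] at this
      exact Bool.noConfusion (congrArg Sd.e this)
    · have := congrArg ε (show u = ⟨z, hzD⟩ from Subtype.ext h1)
      rw [hu, ε.apply_symm_apply, hεz] at this
      exact Bool.noConfusion (congrArg Sd.e this)
  have hw1 : mk (w : G) ≠ 1 := fun h => by
    rcases (hmem _).mp ((QuotientGroup.eq_one_iff _).mp h) with h1 | h1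
    · rw [h1, mul_one] at hw2; exact hz1 hw2.symm
    · rw [h1, hzz] at hw2; exact hz1 hw2.symm
  have hmk : mk z = 1 := (QuotientGroup.eq_one_iff _).mpr (Subgroup.mem_zpowers z)
  obtain ⟨q, hq⟩ := isConj_iff.mp (involutions_conj_of_rank_three hM (isPBlock_inflSet hM hQ hC hB) hD'
    (show 1 ≤ k + 1 by omega) δ hl' (mk u) (Subgroup.mem_map_of_mem mk u.2) (mk w) (Subgroup.mem_map_of_mem mk w.2)
    (by rw [← map_mul, hu2, map_one]) hu1 (by rw [← map_mul, hw2, hmk]) hw1)
  obtain ⟨g, rfl⟩ := QuotientGroup.mk'_surjective Q q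
  have hin : ((w : G))⁻¹ * (g * u * g⁻¹) ∈ Q := by
    rw [← QuotientGroup.eq_one_iff]
    show mk ((w : G)⁻¹ * (g * u * g⁻¹)) = 1
    rw [map_mul, map_inv, map_mul, map_mul, map_inv, hq, inv_mul_cancel]
  have h1 : g * (u : G) * g⁻¹ * (g * u * g⁻¹) = 1 := by
    rw [show g * (u : G) * g⁻¹ * (g * u * g⁻¹) = g * ((u : G) * u) * g⁻¹ by group, hu2, mul_one, mul_inv_cancel]
  rcases (hmem _).mp hin with h | h <;> rw [inv_mul_eq_iff_eq_mul] at h <;> rw [h] at h1
  · rw [mul_one, hw2] at h1; exact hz1 h1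
  · rw [show (w : G) * z * ((w : G) * z) = (w : G) * (z * w) * z by group,
      ← Subgroup.mem_center_iff.mp hz (w : G), ← mul_assoc, hw2, hzz, one_mul] at h1
    exact hz1 h1

/-- The centre has odd order and the group is not solvable. -/
theorem center_odd_and_not_solvable (hM : IsPModular 2 M) (hB : IsPBlock M B) (hD : IsDefectGroup 2 M B D)
    (hl : blockRank 2 B = 3) (hcyc : HasCycTwo ↥D)
    (hno : ∀ z ∈ Subgroup.center G, orderOf z ≠ 2) :
    Odd (Nat.card (Subgroup.center G)) ∧ ¬ Group.IsSolvable G := by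
  refine ⟨?_, fun hs => ?_⟩
  · by_contra h
    rw [Nat.not_odd_iff_even] at h
    have : Fact (Nat.Prime 2) := ⟨Nat.prime_two⟩
    obtain ⟨x, hx⟩ := exists_prime_orderOf_dvd_card' 2 h.two_dvd
    exact hno x x.2 (by rw [Subgroup.orderOf_coe, hx])
  · have := blockRank_le_two hM hB hD hcyc
    omega

end CfsgLib.RankThree
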